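import Groth.Agent.L01.Unip.Poly
import Groth.Agent.L20.RepTensor.Main
import Groth.Agent.L25.Dyn.Grading
import Groth.Agent.L08.FlagGroup
import Groth.Agent.L25.Observable.Translate
import Groth.Agent.S8091

/-!
# Connected smooth unipotent groups are affine spaces
-/

set_option autoImplicit false
set_option backward.isDefEq.respectTransparency.types false

universe u

open TensorProduct WithConv CategoryTheory AlgebraicGeometry
open MonoidalCategory CartesianMonoidalCategory MonObj GrpObj
open Groth.L25.Dyn (Pt pmap pmap_apply inv_apply)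
open Groth.L01.SmoothKer (IsPrim)

noncomputable section

namespace Groth.L20.Rational

variable {k : Type u} [Field k] [IsAlgClosed k] {A : Type u} [CommRing A] [HopfAlgebra k A] [Algebra.FiniteType k A]

/-- the universal point composed with constants -/
def cstPt (R : Type u) [CommRing R] [Algebra k R] : Pt (k := k) A k →* Pt (k := k) A R := pmap (Algebra.ofId k R)

/-- a family of points parametrised by a reduced irreducible variety with finitely many values is constant -/
theorem const_of_finite_image {D : Type u} [CommRing D] [IsDomain D] [Algebra k D] [Algebra.FiniteType k D]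
    (φ : A →ₐ[k] D) (F : Set (A →ₐ[k] k)) (hF : F.Finite) (h : ∀ y : D →ₐ[k] k, y.comp φ ∈ F)
    (y y' : D →ₐ[k] k) : y.comp φ = y'.comp φ := by
  classical
  by_cases hc : ∃ z ∈ F, ∀ a, z a = 0 → φ a = 0
  · obtain ⟨z, -, hz⟩ := hc
    have e : ∀ a, φ a = algebraMap k D (z a) := fun a => by
      have := hz (a - algebraMap k A (z a)) (by simp)
      rwa [map_sub, AlgHom.commutes, sub_eq_zero] at this
    exact AlgHom.ext fun a => by simp [e a]
  · push Not at hc
    choose a ha0 ha using hc
    let P : D := ∏ z : hF.toFinset, φ (a z.1 (hF.mem_toFinset.1 z.2))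
    have hP : P ≠ 0 := Finset.prod_ne_zero_iff.2 fun z _ => ha z.1 _
    refine absurd ?_ hP
    haveI : IsReduced D := inferInstance
    refine Groth.L25.GeomIrred.eq_zero_of_forall_algHom (k := k) P fun w => ?_
    show w (∏ z : hF.toFinset, φ (a z.1 (hF.mem_toFinset.1 z.2))) = 0
    rw [map_prod]
    refine Finset.prod_eq_zero (i := (⟨w.comp φ, hF.mem_toFinset.2 (h w)⟩ : hF.toFinset)) (Finset.mem_univ _) ?_
    exact ha0 (w.comp φ) (h w)

theorem ker_counit_eq_bot_of_finite [IsDomain A] (h : Finite (Pt (k := k) A k)) :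
    RingHom.ker (Bialgebra.counitAlgHom k A) = ⊥ := by
  refine (Submodule.eq_bot_iff _).2 fun a ha => ?_
  haveI : IsReduced A := inferInstance
  refine Groth.L25.GeomIrred.eq_zero_of_forall_algHom (k := k) a fun y => ?_
  have e := const_of_finite_image (AlgHom.id k A) (Set.range fun z : Pt (k := k) A k => z.ofConv) (Set.finite_range _)
    (fun w => ⟨toConv w, rfl⟩) y (Bialgebra.counitAlgHom k A)
  rw [AlgHom.comp_id, AlgHom.comp_id] at e
  rw [e]
  exact ha

theorem infinite_center [IsDomain A] (hU : HopfRep.IsUnipotent k A)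
    (hne : RingHom.ker (Bialgebra.counitAlgHom k A) ≠ ⊥) :
    Infinite (Subgroup.center (Pt (k := k) A k)) := by
  rw [← not_finite_iff_infinite]
  intro hfin
  haveI hnil : Group.IsNilpotent (Pt (k := k) A k) := Groth.L08.isNilpotent_points hU
  refine hne (ker_counit_eq_bot_of_finite ?_)
  have hstep : ∀ h : Pt (k := k) A k, (∀ g, g * h * g⁻¹ * h⁻¹ ∈ Subgroup.center (Pt (k := k) A k)) →
      h ∈ Subgroup.center (Pt (k := k) A k) := by
    intro h hh
    let u : Pt (k := k) A A := toConv (AlgHom.id k A)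
    let w : Pt (k := k) A A := u * cstPt A h * u⁻¹ * (cstPt A h)⁻¹
    have hw : ∀ y : A →ₐ[k] k, y.comp w.ofConv = (toConv y * h * (toConv y)⁻¹ * h⁻¹).ofConv := by
      intro y
      have hu : pmap y u = toConv y := WithConv.ext (AlgHom.ext fun _ => rfl)
      have hc : pmap y (cstPt A h) = h := WithConv.ext (AlgHom.ext fun a => y.commutes _)
      show (pmap y w).ofConv = _
      simp only [w, map_mul, map_inv, hu, hc]
    refine Subgroup.mem_center_iff.2 fun g => ?_
    have e := const_of_finite_image w.ofConv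
      (Set.range fun z : Subgroup.center (Pt (k := k) A k) => z.1.ofConv) (Set.finite_range _)
      (fun y => ⟨⟨_, hh (toConv y)⟩, (hw y).symm⟩) g.ofConv (1 : Pt (k := k) A k).ofConv
    rw [hw, hw, toConv_ofConv, toConv_ofConv] at e
    have e' : g * h * g⁻¹ * h⁻¹ = 1 := by
      refine (WithConv.ext e).trans ?_
      group
    calc g * h = (g * h * g⁻¹ * h⁻¹) * (h * g) := by group
      _ = h * g := by rw [e', _root_.one_mul]
  have hall : ∀ i, Subgroup.upperCentralSeries (Pt (k := k) A k) i ≤ Subgroup.center (Pt (k := k) A k) := by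
    intro i
    induction i with
    | zero => simp
    | succ i ih =>
      intro h hh
      refine hstep h fun g => ?_
      have := inv_mem ((Subgroup.mem_upperCentralSeries_succ_iff).1 hh g)
      refine ih ?_
      convert this using 1
      group
  obtain ⟨n, hn⟩ := (Group.isNilpotent_iff _).1 hnil
  haveI := hfin
  exact Finite.of_surjective (fun z : Subgroup.center (Pt (k := k) A k) => z.1) fun g =>
    ⟨⟨g, hall n (hn ▸ Subgroup.mem_top g)⟩, rfl⟩

/-- a nontrivial connected smooth unipotent group has a central additive line -/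
theorem exists_central_line [IsDomain A] (hU : HopfRep.IsUnipotent k A)
    (hne : RingHom.ker (Bialgebra.counitAlgHom k A) ≠ ⊥) :
    ∃ (Q : Type u) (_ : CommRing Q) (_ : HopfAlgebra k Q) (p : A →ₐc[k] Q) (e : Polynomial k ≃ₐ[k] Q),
      Function.Surjective p ∧ IsPrim (k := k) (e Polynomial.X) ∧
        ∀ (I : Ideal A), (∀ a, a ∈ I ↔ p a = 0) → SGA3.IsNormalHopfIdeal k A I := by
  classical
  haveI : IsReduced A := inferInstance
  haveI := infinite_center hU hne
  let Z := Subgroup.center (Pt (k := k) A k)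
  obtain ⟨B₀, _, _, π₀, Ψ₀, hπ₀, _, hsep₀, hev₀, -⟩ := Groth.L20.RepTensor.exists_closure (K := k) Z.subtype
  obtain ⟨N, _, _, B, _, _, π₁, Ψ₁, hπ₁, _, hsep₁, hev₁, hidem⟩ := Groth.L20.RepTensor.exists_connected hsep₀
  haveI : Infinite N := by
    rw [← not_finite_iff_infinite]
    intro hN
    haveI : Finite (Z ⧸ N) := Subgroup.finite_quotient_of_finiteIndex
    haveI : Finite Z := Finite.of_equiv _ (Subgroup.groupEquivQuotientProdSubgroup (s := N)).symm
    exact not_finite Z
  let N' : Subgroup (Pt (k := k) A k) := N.map Z.subtype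
  have hN'Z : ∀ x ∈ N', ∀ g, g * x = x * g := by
    rintro _ ⟨n, -, rfl⟩ g
    exact Subgroup.mem_center_iff.1 n.2 g
  let J : Ideal A := ⨅ x ∈ N', RingHom.ker (WithConv.ofConv x : A →ₐ[k] k)
  haveI : J.IsHopfIdeal k := Groth.Agent.S7974.result k A N'
  have hJ : ∀ a, a ∈ J ↔ π₁ (π₀ a) = 0 := by
    intro a
    simp only [J, Ideal.mem_iInf, RingHom.mem_ker]
    constructor
    · intro h
      refine hsep₁ _ fun n => ?_
      rw [hev₁, hev₀]
      exact h _ ⟨n.1, n.2, rfl⟩
    · rintro h _ ⟨n, hn, rfl⟩
      have := (hev₁ ⟨n, hn⟩ (π₀ a)).symm.trans (show Groth.L20.RepTensor.ev Ψ₁ ⟨n, hn⟩ (π₁ (π₀ a)) = 0 by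
        rw [h]; exact map_zero _)
      rwa [hev₀] at this
  let C := A ⧸ J
  let π : A →ₐc[k] C := Bialgebra.Quotient.mkBialgHom J
  have hπs : Function.Surjective π := Ideal.Quotient.mk_surjective
  haveI : Algebra.FiniteType k C := Algebra.FiniteType.of_surjective (Ideal.Quotient.mkₐ k J) Ideal.Quotient.mk_surjective
  let ρ : N' → (C →ₐ[k] k) := fun x => Ideal.Quotient.liftₐ J x.1.ofConv fun a ha => by
    simp only [J, Ideal.mem_iInf, RingHom.mem_ker] at ha
    exact ha _ x.2
  have hρ : ∀ x a, ρ x (π a) = x.1.ofConv a := fun _ _ => rfl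
  let Φ : N' →* WithConv (C →ₐ[k] k) :=
    { toFun := fun x => toConv (ρ x)
      map_one' := WithConv.ext (Ideal.Quotient.algHom_ext k (AlgHom.ext fun a => rfl))
      map_mul' := fun x y => WithConv.ext (Ideal.Quotient.algHom_ext k (AlgHom.ext fun a => by
        show (x.1 * y.1).ofConv a = (toConv (ρ x) * toConv (ρ y)).ofConv (π a)
        rw [AlgHom.convMul_apply, AlgHom.convMul_apply, ← CoalgHomClass.map_comp_comul_apply π a]
        generalize Coalgebra.comul (R := k) a = z
        induction z using TensorProduct.induction_on with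
        | zero => simp
        | add p q hp hq => simp only [map_add, hp, hq]
        | tmul p q => simp [hρ])) }
  have hsep : Groth.L20.RepTensor.Separating Φ := by
    intro c hc
    obtain ⟨a, rfl⟩ := hπs c
    refine Ideal.Quotient.eq_zero_iff_mem.2 ?_
    simp only [J, Ideal.mem_iInf, RingHom.mem_ker]
    exact fun x hx => hc ⟨x, hx⟩
  haveI : IsReduced C := hsep.isReduced
  haveI : Nontrivial C := RingHom.domain_nontrivial (Bialgebra.counitAlgHom k C).toRingHom
  haveI : IsDomain C := by
    haveI := smooth_Sp (k := k) (A := C)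
    haveI : ConnectedSpace (Groth.L25.Observable.Sp k C).left := by
      refine Groth.L20.RepTensor.connectedSpace_of_idempotents fun c hc => ?_
      obtain ⟨a, rfl⟩ := hπs c
      have h2 : a * a - a ∈ J := Ideal.Quotient.eq_zero_iff_mem.1 (by
        show π (a * a - a) = 0
        rw [map_sub, map_mul, hc, sub_self])
      rcases hidem (π₁ (π₀ a)) (by
        show π₁ (π₀ a) * π₁ (π₀ a) = π₁ (π₀ a)
        rw [← map_mul, ← map_mul, ← sub_eq_zero, ← map_sub, ← map_sub]; exact (hJ _).1 h2) with h | h
      · exact Or.inl (Ideal.Quotient.eq_zero_iff_mem.2 ((hJ a).2 h))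
      · refine Or.inr ?_
        rw [← sub_eq_zero, ← map_one π, ← map_sub]
        exact Ideal.Quotient.eq_zero_iff_mem.2 ((hJ _).2 (by rw [map_sub, map_sub, h, map_one, map_one, sub_self]))
    exact Groth.L25.Observable.isDomain (𝟙 (Groth.L25.Observable.Sp k C))
  haveI : Coalgebra.IsCocomm k C := ⟨LinearMap.ext fun c => by
    refine hsep.tensor fun x y => ?_
    have hswap : ∀ z : C ⊗[k] C, Groth.L20.RepTensor.ev₂ Φ x y (TensorProduct.comm k C C z) =
        Groth.L20.RepTensor.ev₂ Φ y x z := by
      intro z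
      induction z using TensorProduct.induction_on with
      | zero => simp
      | add p q hp hq => simp only [map_add, hp, hq]
      | tmul p q => rw [TensorProduct.comm_tmul, Groth.L20.RepTensor.ev₂_tmul, Groth.L20.RepTensor.ev₂_tmul, mul_comm]
    show Groth.L20.RepTensor.ev₂ Φ x y (TensorProduct.comm k C C (Coalgebra.comul c)) = _
    rw [hswap, ← Groth.L20.RepTensor.ev_mul, ← Groth.L20.RepTensor.ev_mul,
      show y * x = x * y from Subtype.ext (hN'Z _ x.2 y.1)]⟩
  have hUC : HopfRep.IsUnipotent k C := (Groth.Agent.S5422.result k A).1 C π hπs hU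
  have hCne : RingHom.ker (Bialgebra.counitAlgHom k C) ≠ ⊥ := by
    intro h
    haveI : Subsingleton N := ⟨fun n m => by
      have key : ∀ n : N, (n.1.1 : Pt (k := k) A k) = 1 := by
        intro n
        refine WithConv.ext (AlgHom.ext fun a => ?_)
        have h1 : π (a - algebraMap k A (Coalgebra.counit (R := k) a)) = 0 := by
          rw [← Ideal.mem_bot, ← h, RingHom.mem_ker]
          show Coalgebra.counit (R := k) (π _) = 0
          rw [CoalgHomClass.counit_comp_apply, map_sub, Bialgebra.counit_algebraMap, sub_self]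
        have h2 := congrArg (ρ ⟨n.1.1, n.1, n.2, rfl⟩) h1
        rw [map_zero, hρ, map_sub, AlgHom.commutes, sub_eq_zero] at h2
        exact h2
      exact Subtype.ext (Subtype.ext ((key n).trans (key m).symm))⟩
    exact not_finite N
  obtain ⟨Q, _, _, p, e, hp, he⟩ := Groth.L01.Unip.exists_line C hUC hCne
  refine ⟨Q, inferInstance, inferInstance, p.comp π, e, hp.comp hπs, he, fun I hI => ?_⟩
  -- the line is central
  let T := A ⊗[k] C
  haveI : IsDomain T := Groth.L25.GeomIrred.isDomain_tensorProduct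
  haveI : Algebra.FiniteType k T := inferInstance
  let i₁ : A →ₐ[k] T := Algebra.TensorProduct.includeLeft
  let i₂ : C →ₐ[k] T := Algebra.TensorProduct.includeRight
  let g₀ : Pt (k := k) A T := toConv i₁
  let h₀ : Pt (k := k) A T := toConv (i₂.comp (π : A →ₐ[k] C))
  have hcomm : g₀ * h₀ = h₀ * g₀ := by
    refine WithConv.ext (AlgHom.ext fun a => sub_eq_zero.1 ?_)
    haveI : IsReduced T := inferInstance
    refine Groth.L25.GeomIrred.eq_zero_of_forall_algHom (k := k) _ fun y => ?_
    rw [map_sub, sub_eq_zero, ← pmap_apply y, ← pmap_apply y, map_mul, map_mul]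
    -- the second component lies in the closure of central points
    have key : ∀ g : Pt (k := k) A k, ∀ c : C →ₐ[k] k, g * toConv (c.comp (π : A →ₐ[k] C)) = toConv (c.comp (π : A →ₐ[k] C)) * g := by
      intro g c
      let u : Pt (k := k) A C := toConv (π : A →ₐ[k] C)
      have hu : cstPt C g * u = u * cstPt C g := by
        refine WithConv.ext (AlgHom.ext fun a => sub_eq_zero.1 (hsep _ fun x => ?_))
        have hx : ∀ f : Pt (k := k) A C, Groth.L20.RepTensor.ev Φ x (f.ofConv a) = (pmap (ρ x) f).ofConv a := fun _ => rfl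
        have h1 : pmap (ρ x) (cstPt C g) = g := WithConv.ext (AlgHom.ext fun b => (ρ x).commutes _)
        have h2 : pmap (ρ x) u = x.1 := WithConv.ext (AlgHom.ext fun b => hρ x b)
        show (Φ x).ofConv (_ - _) = 0
        rw [map_sub]
        show Groth.L20.RepTensor.ev Φ x _ - Groth.L20.RepTensor.ev Φ x _ = 0
        rw [hx, hx, map_mul, map_mul, h1, h2, hN'Z _ x.2 g, sub_self]
      have h1 : pmap c (cstPt C g) = g := WithConv.ext (AlgHom.ext fun b => c.commutes _)
      have h2 := congrArg (pmap c) hu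
      rw [map_mul, map_mul, h1] at h2
      exact h2
    have e2 : pmap y h₀ = toConv ((y.comp i₂).comp (π : A →ₐ[k] C)) := WithConv.ext (AlgHom.ext fun _ => rfl)
    rw [e2, key]
  intro R _ _ g h hh a ha
  let hC : C →ₐ[k] R := Ideal.Quotient.liftₐ J h fun b hb => hh b ((hI b).2 (by
    show p (π b) = 0
    rw [show π b = 0 from Ideal.Quotient.eq_zero_iff_mem.2 hb, map_zero]))
  let Y : T →ₐ[k] R := Algebra.TensorProduct.lift g hC fun _ _ => Commute.all _ _
  have hg : pmap Y g₀ = toConv g := WithConv.ext (AlgHom.ext fun b => by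
    show Algebra.TensorProduct.lift g hC (fun _ _ => Commute.all _ _) (b ⊗ₜ[k] (1 : C)) = g b
    simp)
  have hh' : pmap Y h₀ = toConv h := WithConv.ext (AlgHom.ext fun b => by
    show Algebra.TensorProduct.lift g hC (fun _ _ => Commute.all _ _) ((1 : A) ⊗ₜ[k] π b) = h b
    rw [Algebra.TensorProduct.lift_tmul, map_one, _root_.one_mul]
    rfl)
  have hc := congrArg (pmap Y) hcomm
  rw [map_mul, map_mul, hg, hh'] at hc
  have e1 : toConv (Dyn.conv3 k A g h (g.comp (HopfAlgebra.antipodeAlgHom k A))) = toConv h := by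
    rw [Groth.L25.Dyn.conv3_eq, show toConv (g.comp (HopfAlgebra.antipodeAlgHom k A)) = (toConv g)⁻¹ from rfl, hc,
      mul_inv_cancel_right]
  rw [WithConv.toConv_injective e1]
  exact hh a ha

/-- connected smooth unipotent groups over an algebraically closed field are affine spaces -/
theorem exists_equiv_mvPolynomial : ∀ (n : ℕ) (A : Type u) [CommRing A] [HopfAlgebra k A] [Algebra.FiniteType k A]
    [IsDomain A], HopfRep.IsUnipotent k A → ringKrullDim A = n →
    Nonempty (A ≃ₐ[k] MvPolynomial (Fin n) k) := by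
  intro n
  induction n using Nat.strong_induction_on with
  | _ n IH =>
  intro A _ _ _ _ hU hdim
  haveI : IsNoetherianRing A := Algebra.FiniteType.isNoetherianRing k A
  by_cases hne : RingHom.ker (Bialgebra.counitAlgHom k A) = ⊥
  · have hbij : Function.Bijective (Bialgebra.counitAlgHom k A) :=
      ⟨(RingHom.injective_iff_ker_eq_bot _).2 hne, fun c => ⟨algebraMap k A c, (Bialgebra.counitAlgHom k A).commutes c⟩⟩
    let e := AlgEquiv.ofBijective (Bialgebra.counitAlgHom k A) hbij
    obtain rfl : n = 0 := by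
      rw [ringKrullDim_eq_of_ringEquiv e.toRingEquiv, ringKrullDim_eq_zero_of_field] at hdim
      exact_mod_cast hdim.symm
    exact ⟨e.trans (MvPolynomial.isEmptyAlgEquiv k (Fin 0)).symm⟩
  obtain ⟨Q, _, _, π, e, hπ, ht, hnormal⟩ := exists_central_line hU hne
  let I : Ideal A := RingHom.ker (π : A →ₐ[k] Q)
  haveI hI : I.IsHopfIdeal k := by
    haveI := Groth.L01.Unip.isHopfIdeal_bot (k := k) Q
    exact Groth.L01.UnipSplit.isHopfIdeal_comap π ⊥
  have hN : SGA3.IsNormalHopfIdeal k A I := hnormal I fun _ => RingHom.mem_ker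
  obtain ⟨B, hB, hBff, hIB⟩ := Groth.Agent.S3018.result k A I hN
  letI := Groth.L25.HopfSub.hopfAlgebra hB
  let inc := Groth.L25.HopfSub.inclBialg hB
  have hincinj : Function.Injective inc := Subtype.val_injective
  have hJ : RingHom.ker (π : A →ₐ[k] Q) = Ideal.map (inc : B →+* A) (RingHom.ker (Bialgebra.counitAlgHom k B)) := by
    refine hIB.trans (congrArg Ideal.span (Set.ext fun b => ⟨?_, ?_⟩))
    · rintro ⟨hb, h0⟩
      exact ⟨⟨b, hb⟩, h0, rfl⟩
    · rintro ⟨⟨b, hb⟩, h0, rfl⟩
      exact ⟨hb, h0⟩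
  obtain ⟨Φ⟩ := Groth.L01.Unip.exists_polynomial_equiv inc hincinj π hπ e ht hJ
  haveI : Algebra.FiniteType k B :=
    Algebra.FiniteType.of_surjective (((Polynomial.aeval (0 : B)).restrictScalars k).comp Φ.symm.toAlgHom)
      fun b => ⟨Φ (Polynomial.C b), by simp⟩
  haveI : IsNoetherianRing B := Algebra.FiniteType.isNoetherianRing k B
  haveI : Nontrivial B := RingHom.domain_nontrivial (Bialgebra.counitAlgHom k B).toRingHom
  obtain ⟨m, hm, rfl⟩ : ∃ m : ℕ, ringKrullDim B = m ∧ n = m + 1 := by
    have h1 : ringKrullDim B + 1 = n := by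
      rw [← Polynomial.ringKrullDim_of_isNoetherianRing, ringKrullDim_eq_of_ringEquiv Φ.toRingEquiv, hdim]
    obtain ⟨d, hd⟩ := WithBot.ne_bot_iff_exists.1
      (ne_of_gt (lt_of_lt_of_le (WithBot.bot_lt_coe 0) (ringKrullDim_nonneg_of_nontrivial (R := B))))
    rw [← hd] at h1 ⊢
    have h2 : d + 1 = (n : ℕ∞) := by exact_mod_cast h1
    have hdne : d ≠ ⊤ := fun h => by simp [h] at h2
    obtain ⟨j, rfl⟩ := ENat.ne_top_iff_exists.1 hdne
    exact ⟨j, rfl, by exact_mod_cast h2.symm⟩
  obtain ⟨eB⟩ := IH m (Nat.lt_succ_self m) B (Groth.L25.UnipExt.isUnipotent_of_injective inc hincinj hU) hm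
  exact ⟨Φ.symm.trans ((Polynomial.mapAlgEquiv eB).trans (MvPolynomial.finSuccEquiv k m).symm)⟩

end Groth.L20.Rational
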