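import Groth.Agent.L20.Rational.Rat
import Groth.Agent.L20.Rational.UnipPoly
import Groth.Agent.L20.SolvCell.Abstract
import Groth.Agent.L08.Borel.SolvTori
import Groth.Agent.L01.Unip.Affine

/-!
# Connected solvable groups are rational
-/

set_option autoImplicit false
set_option backward.isDefEq.respectTransparency.types false

universe u

open TensorProduct WithConv
open Groth.L25.Dyn (Pt pmap pmap_apply inv_apply)
open Groth.L20.SolvCell (resB resB_apply)

noncomputable section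

namespace Groth.L20.Rational

variable {k : Type u} [Field k] [IsAlgClosed k] {A : Type u} [CommRing A] [HopfAlgebra k A] [Algebra.FiniteType k A]
  [IsDomain A]

/-- a connected smooth solvable group is a product of a unipotent group and a torus -/
theorem exists_equiv_tensor_of_solvable [Group.IsSolvable (Pt (k := k) A k)] :
    ∃ (U : Type u) (_ : CommRing U) (_ : IsDomain U) (_ : Algebra k U) (m n : ℕ),
      Nonempty (U ≃ₐ[k] MvPolynomial (Fin m) k) ∧
      Nonempty (A ≃ₐ[k] U ⊗[k] MonoidAlgebra k (Multiplicative (Fin n → ℤ))) := by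
  classical
  have hconn : ∀ e : A, IsIdempotentElem e → e = 0 ∨ e = 1 := fun e he => IsIdempotentElem.iff_eq_zero_or_one.1 he
  haveI : _root_.IsReduced A := inferInstance
  obtain ⟨B, _, _, ψ, J, hJI, r, n, hψ, -, hJ, hU, hr, ⟨eB⟩⟩ := Groth.L08.Borel.exists_retraction (k := k) hconn
  letI := hJI
  have hrψ : ∀ b, r (ψ b) = b := fun b => congrArg (fun f : B →ₐc[k] B => f b) hr
  let u : Pt (k := k) A A := toConv (AlgHom.id k A)
  let w : Pt (k := k) A A := toConv ((ψ : B →ₐ[k] A).comp (r : A →ₐ[k] B))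
  let φ : Pt (k := k) A A := u * w⁻¹
  have hφ : resB ψ φ = 1 := by
    have : resB ψ w = resB ψ u := WithConv.ext (AlgHom.ext fun b => congrArg ψ (hrψ b))
    rw [map_mul, map_inv, this, mul_inv_cancel]
  have hφJ : ∀ a ∈ J, φ.ofConv a = 0 := by
    have hle : J ≤ RingHom.ker φ.ofConv := by
      refine le_of_eq_of_le hJ (Ideal.map_le_iff_le_comap.2 fun b hb => ?_)
      show φ.ofConv (ψ b) = 0
      have h1 := congrArg (fun x : Pt (k := k) B A => x.ofConv b) hφ
      rw [show (resB ψ φ).ofConv b = φ.ofConv (ψ b) from rfl] at h1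
      rw [h1]
      show algebraMap k A (Coalgebra.counit (R := k) b) = 0
      rw [show Coalgebra.counit (R := k) b = 0 from hb, map_zero]
    exact fun a ha => hle ha
  let φb : A ⧸ J →ₐ[k] A := Ideal.Quotient.liftₐ J φ.ofConv hφJ
  let Φ : (A ⧸ J) ⊗[k] B →ₐ[k] A := Algebra.TensorProduct.lift φb (ψ : B →ₐ[k] A) fun _ _ => Commute.all _ _
  let i1 : A ⧸ J →ₐ[k] (A ⧸ J) ⊗[k] B := Algebra.TensorProduct.includeLeft
  let i2 : B →ₐ[k] (A ⧸ J) ⊗[k] B := Algebra.TensorProduct.includeRight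
  let p1 : Pt (k := k) A ((A ⧸ J) ⊗[k] B) := toConv (i1.comp (Ideal.Quotient.mkₐ k J))
  let p2 : Pt (k := k) A ((A ⧸ J) ⊗[k] B) := toConv (i2.comp (r : A →ₐ[k] B))
  let Θ : A →ₐ[k] (A ⧸ J) ⊗[k] B := (p1 * p2).ofConv
  have hΦ1 : pmap Φ p1 = φ := WithConv.ext (AlgHom.ext fun a => by
    show Φ (Ideal.Quotient.mk J a ⊗ₜ[k] 1) = φ.ofConv a
    rw [Algebra.TensorProduct.lift_tmul, map_one, _root_.mul_one]; rfl)
  have hΦ2 : pmap Φ p2 = w := WithConv.ext (AlgHom.ext fun a => by
    show Φ (1 ⊗ₜ[k] r a) = ψ (r a)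
    rw [Algebra.TensorProduct.lift_tmul, map_one, _root_.one_mul]; rfl)
  have hΦΘ : Φ.comp Θ = AlgHom.id k A := by
    have : pmap Φ (p1 * p2) = u := by rw [map_mul, hΦ1, hΦ2, inv_mul_cancel_right]
    exact congrArg WithConv.ofConv this
  have hp1 : resB ψ p1 = 1 := WithConv.ext (AlgHom.ext fun b => by
    show i1 (Ideal.Quotient.mkₐ k J (ψ b)) = algebraMap k _ (Coalgebra.counit (R := k) b)
    have hb : ψ b - algebraMap k A (Coalgebra.counit (R := k) b) ∈ J := by
      rw [hJ]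
      have : b - algebraMap k B (Coalgebra.counit (R := k) b) ∈ RingHom.ker (Bialgebra.counitAlgHom k B) := by
        show Coalgebra.counit (R := k) (b - algebraMap k B (Coalgebra.counit (R := k) b)) = 0
        simp
      convert Ideal.mem_map_of_mem (ψ : B →+* A) this using 1
      show _ = (ψ : B →ₐ[k] A) _
      rw [map_sub, AlgHom.commutes]; rfl
    have := Ideal.Quotient.eq.2 hb
    rw [show Ideal.Quotient.mkₐ k J (ψ b) = algebraMap k _ (Coalgebra.counit (R := k) b) from this, AlgHom.commutes])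
  have hΘψ : resB ψ (p1 * p2) = toConv i2 := by
    rw [map_mul, hp1, _root_.one_mul]
    exact WithConv.ext (AlgHom.ext fun b => congrArg i2 (hrψ b))
  have hΘw : pmap Θ w = p2 := WithConv.ext (AlgHom.ext fun a => by
    show Θ (ψ (r a)) = i2 (r a)
    exact congrArg (fun x : Pt (k := k) B _ => x.ofConv (r a)) hΘψ)
  have hΘφ : ∀ a, Θ (φ.ofConv a) = i1 (Ideal.Quotient.mkₐ k J a) := by
    have : pmap Θ φ = p1 := by
      rw [map_mul, map_inv, hΘw, show pmap Θ u = p1 * p2 from WithConv.ext (AlgHom.ext fun _ => rfl),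
        mul_inv_cancel_right]
    exact fun a => congrArg (fun x : Pt (k := k) A _ => x.ofConv a) this
  have hΘΦ : Θ.comp Φ = AlgHom.id k _ := by
    refine Algebra.TensorProduct.ext ?_ ?_
    · refine Ideal.Quotient.algHom_ext k (AlgHom.ext fun a => ?_)
      show Θ (Φ (Ideal.Quotient.mk J a ⊗ₜ[k] 1)) = Ideal.Quotient.mk J a ⊗ₜ[k] 1
      rw [Algebra.TensorProduct.lift_tmul, map_one, _root_.mul_one]
      exact hΘφ a
    · refine AlgHom.ext fun b => ?_
      show Θ (Φ (1 ⊗ₜ[k] b)) = 1 ⊗ₜ[k] b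
      rw [Algebra.TensorProduct.lift_tmul, map_one, _root_.one_mul]
      exact congrArg (fun x : Pt (k := k) B _ => x.ofConv b) hΘψ
  let e := AlgEquiv.ofAlgHom Θ Φ hΘΦ hΦΘ
  let ret : (A ⧸ J) ⊗[k] B →ₐ[k] A ⧸ J := Algebra.TensorProduct.lift (AlgHom.id k _)
    ((Algebra.ofId k _).comp (Bialgebra.counitAlgHom k B)) fun _ _ => Commute.all _ _
  have hi1 : Function.Injective i1 := fun x y h => by
    have := congrArg ret h
    simpa [i1, ret] using this
  haveI : IsDomain (A ⧸ J) :=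
    Function.Injective.isDomain (e.symm.toAlgHom.comp i1) (e.symm.injective.comp hi1)
  obtain ⟨m, hm⟩ := Groth.L01.Unip.exists_ringKrullDim k (A ⧸ J)
  obtain ⟨eU⟩ := exists_equiv_mvPolynomial m (A ⧸ J) hU hm
  exact ⟨A ⧸ J, inferInstance, inferInstance, inferInstance, m, n, ⟨eU⟩,
    ⟨e.trans (Algebra.TensorProduct.congr AlgEquiv.refl eB.toAlgEquiv)⟩⟩

theorem rat_of_solvable [Group.IsSolvable (Pt (k := k) A k)] : Rat k A := by
  obtain ⟨U, _, _, _, m, n, ⟨eU⟩, ⟨e⟩⟩ := exists_equiv_tensor_of_solvable (k := k) (A := A)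
  haveI : IsDomain (MonoidAlgebra k (Multiplicative (Fin n → ℤ))) := NoZeroDivisors.to_isDomain _
  haveI : IsDomain (U ⊗[k] MonoidAlgebra k (Multiplicative (Fin n → ℤ))) :=
    Groth.L25.GeomIrred.isDomain_tensorProduct
  exact Rat.congr e (Rat.tensor (Rat.congr eU (rat_mvPolynomial m)) (rat_laurent n))

end Groth.L20.Rational
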