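import Mathlib.RingTheory.Localization.FractionRing
import Mathlib.RingTheory.Localization.Away.Basic
import Mathlib.RingTheory.FiniteType
import Mathlib.Tactic.FieldSimp
import Mathlib.Tactic.Ring

/-!
# Finitely generated algebras with the same fraction field agree after a localisation
-/

set_option autoImplicit false

universe u

noncomputable section

namespace Groth.L20.Rational

variable {k K : Type u} [Field k] [Field K] [Algebra k K]

/-- the subalgebra of a field generated by a subalgebra and an inverse -/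
def invAdj {A : Type u} [CommRing A] [Algebra k A] (ι : A →ₐ[k] K) (a : A) : Subalgebra k K :=
  Algebra.adjoin k (Set.range ι ∪ {(ι a)⁻¹})

variable {A : Type u} [CommRing A] [Algebra k A] (ι : A →ₐ[k] K)

theorem mem_invAdj (a x : A) : ι x ∈ invAdj ι a := Algebra.subset_adjoin (Or.inl ⟨x, rfl⟩)

theorem inv_mem_invAdj (a : A) : (ι a)⁻¹ ∈ invAdj ι a := Algebra.subset_adjoin (Or.inr rfl)

theorem div_mem_invAdj {a b : A} (h : a ∣ b) (hb : ι b ≠ 0) (x : A) : ι x / ι a ∈ invAdj ι b := by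
  obtain ⟨c, rfl⟩ := h
  rw [map_mul] at hb
  have : ι x / ι a = ι (x * c) * (ι (a * c))⁻¹ := by
    rw [map_mul, map_mul, mul_inv, div_eq_mul_inv, show ι x * ι c * ((ι a)⁻¹ * (ι c)⁻¹) =
      ι x * (ι a)⁻¹ * (ι c * (ι c)⁻¹) by ring, mul_inv_cancel₀ (right_ne_zero_of_mul hb), mul_one]
  rw [this]
  exact mul_mem (mem_invAdj ι _ _) (inv_mem_invAdj ι _)

theorem invAdj_le {a b : A} (h : a ∣ b) (hb : ι b ≠ 0) : invAdj ι a ≤ invAdj ι b := by
  refine Algebra.adjoin_le ?_
  rintro x (⟨y, rfl⟩ | rfl)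
  · exact mem_invAdj ι b y
  · simpa [one_div] using div_mem_invAdj ι h hb 1

theorem exists_away_map (hι : Function.Injective ι) {a : A} (ha : a ≠ 0) :
    ∃ L : Localization.Away a →ₐ[k] K, Function.Injective L ∧ L.range = invAdj ι a ∧
      ∀ z ∈ invAdj ι a, ∃ (x : A) (l : ℕ), z * ι a ^ l = ι x := by
  have hu : ∀ y : Submonoid.powers a, IsUnit (ι y) := by
    rintro ⟨_, n, rfl⟩
    rw [isUnit_iff_ne_zero]
    show ι (a ^ n) ≠ 0
    rw [map_pow]
    exact pow_ne_zero _ ((map_ne_zero_iff ι hι).2 ha)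
  let L : Localization.Away a →ₐ[k] K := IsLocalization.liftAlgHom hu
  have hL : ∀ x, L (algebraMap A _ x) = ι x := fun x => IsLocalization.lift_eq hu x
  have hrep : ∀ z : Localization.Away a, ∃ (x : A) (l : ℕ), L z * ι a ^ l = ι x := by
    intro z
    obtain ⟨⟨x, ⟨_, l, rfl⟩⟩, h⟩ := IsLocalization.surj (Submonoid.powers a) z
    refine ⟨x, l, ?_⟩
    have h1 := congrArg L h
    rw [map_mul, hL, hL] at h1
    rwa [map_pow] at h1
  have hrange : L.range = invAdj ι a := by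
    refine le_antisymm ?_ (Algebra.adjoin_le ?_)
    · rintro _ ⟨z, rfl⟩
      obtain ⟨x, l, h⟩ := hrep z
      have h2 : ι a ^ l ≠ 0 := pow_ne_zero _ ((map_ne_zero_iff ι hι).2 ha)
      show L z ∈ _
      rw [show L z = ι x * ((ι a)⁻¹) ^ l by rw [← h, inv_pow, mul_assoc, mul_inv_cancel₀ h2, mul_one]]
      exact mul_mem (mem_invAdj ι _ _) (pow_mem (inv_mem_invAdj ι _) _)
    · rintro x (⟨y, rfl⟩ | rfl)
      · exact ⟨algebraMap A _ y, hL y⟩
      · refine ⟨IsLocalization.Away.invSelf a, eq_inv_of_mul_eq_one_left ?_⟩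
        show L _ * ι a = 1
        rw [← hL a, ← map_mul, mul_comm, IsLocalization.Away.mul_invSelf, map_one]
  refine ⟨L, (injective_iff_map_eq_zero L).2 fun z hz => ?_, hrange, fun z hz => ?_⟩
  · obtain ⟨⟨x, s⟩, h⟩ := IsLocalization.surj (Submonoid.powers a) z
    have h1 := congrArg L h
    rw [map_mul, hz, zero_mul, hL, eq_comm, ← map_zero ι] at h1
    have h2 : x = 0 := hι h1
    rw [h2, map_zero] at h
    exact (IsLocalization.map_units (Localization.Away a) s).mul_left_eq_zero.1 h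
  · rw [← hrange] at hz
    obtain ⟨w, rfl⟩ := hz
    exact hrep w

theorem exists_bound [IsDomain A] (hι : Function.Injective ι) (hf : ∀ z : K, ∃ x s : A, s ≠ 0 ∧ z * ι s = ι x)
    (S : Finset K) : ∃ d : A, d ≠ 0 ∧ ∀ z ∈ S, z ∈ invAdj ι d := by
  classical
  choose x s hs hx using hf
  have hd : (∏ z ∈ S, s z) ≠ 0 := Finset.prod_ne_zero_iff.2 fun z _ => hs z
  refine ⟨∏ z ∈ S, s z, hd, fun z hz => ?_⟩
  have : z = ι (x z) / ι (s z) := by
    rw [eq_div_iff ((map_ne_zero_iff ι hι).2 (hs z))]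
    exact hx z
  rw [this]
  exact div_mem_invAdj ι (Finset.dvd_prod_of_mem s hz) ((map_ne_zero_iff ι hι).2 hd) _

theorem range_le_invAdj {B : Type u} [CommRing B] [Algebra k B] (κ : B →ₐ[k] K) {s : Finset B}
    (hs : Algebra.adjoin k (s : Set B) = ⊤) {d : A} (h : ∀ b ∈ s, κ b ∈ invAdj ι d) (b : B) :
    κ b ∈ invAdj ι d := by
  have hb : b ∈ Algebra.adjoin k (s : Set B) := hs ▸ trivial
  have : Algebra.adjoin k (s : Set B) ≤ (invAdj ι d).comap κ := Algebra.adjoin_le fun x hx => h x hx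
  exact this hb

/-- **birational finitely generated domains are isomorphic after localisation** -/
theorem exists_away_equiv {B : Type u} [CommRing B] [Algebra k B] [IsDomain A] [IsDomain B] [Algebra.FiniteType k A]
    [Algebra.FiniteType k B] (κ : B →ₐ[k] K) (hι : Function.Injective ι) (hκ : Function.Injective κ)
    (hA : ∀ z : K, ∃ x s : A, s ≠ 0 ∧ z * ι s = ι x) (hB : ∀ z : K, ∃ x s : B, s ≠ 0 ∧ z * κ s = κ x) :
    ∃ (a : A) (b : B), a ≠ 0 ∧ b ≠ 0 ∧ Nonempty (Localization.Away a ≃ₐ[k] Localization.Away b) := by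
  classical
  obtain ⟨sA, hsA⟩ := (‹Algebra.FiniteType k A›).out
  obtain ⟨sB, hsB⟩ := (‹Algebra.FiniteType k B›).out
  obtain ⟨c, hc, hcB⟩ := exists_bound ι hι hA (sB.image κ)
  have hιc : ι c ≠ 0 := (map_ne_zero_iff ι hι).2 hc
  obtain ⟨d, hd, hdA⟩ := exists_bound κ hκ hB (insert (ι c)⁻¹ (sA.image ι))
  have hκd : κ d ≠ 0 := (map_ne_zero_iff κ hκ).2 hd
  have hA' : ∀ x, ι x ∈ invAdj κ d := range_le_invAdj κ ι hsA fun x hx =>
    hdA _ (Finset.mem_insert_of_mem (Finset.mem_image_of_mem ι hx))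
  have hcinv : (ι c)⁻¹ ∈ invAdj κ d := hdA _ (Finset.mem_insert_self _ _)
  have hB' : ∀ y, κ y ∈ invAdj ι c := range_le_invAdj ι κ hsB fun y hy => hcB _ (Finset.mem_image_of_mem κ hy)
  obtain ⟨-, -, -, hrep⟩ := exists_away_map ι hι hc
  obtain ⟨x, l, hx⟩ := hrep _ (hB' d)
  have hιx : ι x ≠ 0 := by rw [← hx]; exact mul_ne_zero hκd (pow_ne_zero _ hιc)
  have hx0 : x ≠ 0 := (map_ne_zero_iff ι hι).1 hιx
  let a := c * x
  have ha : a ≠ 0 := mul_ne_zero hc hx0
  have hιa : ι a ≠ 0 := (map_ne_zero_iff ι hι).2 ha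
  have heq : invAdj ι a = invAdj κ d := by
    refine le_antisymm (Algebra.adjoin_le ?_) (Algebra.adjoin_le ?_)
    · rintro z (⟨y, rfl⟩ | rfl)
      · exact hA' y
      · have : (ι a)⁻¹ = (ι c)⁻¹ * ((κ d)⁻¹ * ((ι c)⁻¹) ^ l) := by
          rw [show ι a = ι c * (κ d * ι c ^ l) by rw [hx, map_mul], mul_inv, mul_inv, inv_pow]
        rw [this]
        exact mul_mem hcinv (mul_mem (inv_mem_invAdj κ d) (pow_mem hcinv l))
    · rintro z (⟨y, rfl⟩ | rfl)
      · exact invAdj_le ι (dvd_mul_right c x) hιa (hB' y)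
      · have : (κ d)⁻¹ = ι (c ^ l) / ι x := by
          rw [← hx, map_pow]
          field_simp
        rw [this]
        exact div_mem_invAdj ι (dvd_mul_left x c) hιa _
  obtain ⟨L, hL, hLr, -⟩ := exists_away_map ι hι ha
  obtain ⟨M, hM, hMr, -⟩ := exists_away_map κ hκ hd
  have e := (AlgEquiv.ofInjective L hL).trans ((Subalgebra.equivOfEq L.range M.range
    (by rw [hLr, hMr, heq])).trans (AlgEquiv.ofInjective M hM).symm)
  exact ⟨a, d, ha, hd, ⟨e⟩⟩

end Groth.L20.Rational
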