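import Groth.Agent.L20.Rational.Rat
import Mathlib.AlgebraicGeometry.AffineScheme
import Mathlib.AlgebraicGeometry.OpenImmersion

/-!
# Open immersions of integral affine schemes are birational
-/

set_option autoImplicit false
set_option backward.isDefEq.respectTransparency.types false

universe u

open CategoryTheory AlgebraicGeometry

noncomputable section

namespace Groth.L20.Rational

variable {A C : Type u} [CommRing A] [IsDomain A] [CommRing C] [IsDomain C]

theorem birational_of_isOpenImmersion (f : A →+* C) (h : IsOpenImmersion (Spec.map (CommRingCat.ofHom f))) :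
    Function.Injective f ∧ ∀ c : C, ∃ x s : A, s ≠ 0 ∧ c * f s = f x := by
  let F := Spec.map (CommRingCat.ofHom f)
  haveI : IsOpenImmersion F := h
  let η : PrimeSpectrum C := ⟨⊥, Ideal.isPrime_bot⟩
  let ηA : PrimeSpectrum A := ⟨⊥, Ideal.isPrime_bot⟩
  have hinj : Function.Injective f := by
    have hle : ηA ⤳ F.base η :=
      (PrimeSpectrum.le_iff_specializes ηA (F.base η)).1 (bot_le : (⊥ : Ideal A) ≤ _)
    obtain ⟨q, hq⟩ := hle.mem_open F.isOpenEmbedding.isOpen_range ⟨η, rfl⟩
    have : q.asIdeal.comap f = ⊥ := congrArg PrimeSpectrum.asIdeal hq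
    rw [RingHom.injective_iff_ker_eq_bot]
    exact le_bot_iff.1 ((Ideal.comap_mono bot_le).trans this.le)
  have hcomap : (⊥ : Ideal C).comap f = ⊥ := RingHom.injective_iff_ker_eq_bot f |>.1 hinj
  refine ⟨hinj, fun c => ?_⟩
  haveI : IsIso (F.stalkMap η) := inferInstance
  have hiso : IsIso (CommRingCat.ofHom (Localization.localRingHom ((⊥ : Ideal C).comap f) ⊥ f rfl)) :=
    ((MorphismProperty.isomorphisms CommRingCat).arrow_mk_iso_iff
      (Scheme.arrowStalkMapSpecIso (CommRingCat.ofHom f) η)).1 (inferInstance : IsIso (F.stalkMap η))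
  obtain ⟨z, hz⟩ := (ConcreteCategory.bijective_of_isIso
    (CommRingCat.ofHom (Localization.localRingHom ((⊥ : Ideal C).comap f) ⊥ f rfl))).2
    (algebraMap C (Localization.AtPrime (⊥ : Ideal C)) c)
  obtain ⟨⟨x, s⟩, hxs⟩ := IsLocalization.surj ((⊥ : Ideal C).comap f).primeCompl z
  refine ⟨x, s, fun h0 => s.2 (by rw [h0]; exact zero_mem _), ?_⟩
  have h1 := congrArg (Localization.localRingHom ((⊥ : Ideal C).comap f) ⊥ f rfl) hxs
  rw [map_mul, Localization.localRingHom_to_map, Localization.localRingHom_to_map] at h1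
  change Localization.localRingHom _ _ f rfl z = _ at hz
  rw [hz, ← map_mul] at h1
  exact IsLocalization.injective (Localization.AtPrime (⊥ : Ideal C))
    (Ideal.primeCompl_le_nonZeroDivisors ⊥) h1

theorem rat_of_isOpenImmersion {k : Type u} [Field k] [Algebra k A] [Algebra k C] (φ : A →ₐ[k] C)
    (h : IsOpenImmersion (Spec.map (CommRingCat.ofHom φ.toRingHom))) (hC : Rat k C) : Rat k A := by
  obtain ⟨h1, h2⟩ := birational_of_isOpenImmersion φ.toRingHom h
  exact hC.of_birational φ h1 h2

end Groth.L20.Rational
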