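import Groth.Agent.L20.Rational.Central
import Groth.Agent.L20.Rational.Open
import Groth.Agent.S3304
import Groth.Agent.S3305
import Mathlib.AlgebraicGeometry.Properties
import Mathlib.RingTheory.KrullDimension.NonZeroDivisors

/-!
# Connected linear groups over algebraically closed fields are rational
-/

set_option autoImplicit false
set_option backward.isDefEq.respectTransparency.types false
set_option linter.style.haveILetI false

universe u

open CategoryTheory AlgebraicGeometry TensorProduct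
open Groth.L25.Dyn (jPlus jU)

noncomputable section

namespace Groth.L20.Rational

variable {k : Type u} [Field k] [IsAlgClosed k]

theorem rat_aux : ∀ (n : ℕ) (A : Type u) [CommRing A] [HopfAlgebra k A] [Algebra.FiniteType k A]
    [IsDomain A], ringKrullDim A = n → Rat k A := by
  intro n
  induction n using Nat.strong_induction_on with
  | _ n IH =>
  intro A _ _ _ _ hdim
  by_cases h : ∀ lam : A →ₐc[k] LaurentPolynomial k, jPlus lam = ⊥
  · exact rat_of_jPlus h
  push Not at h
  obtain ⟨lam, hlam⟩ := h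
  obtain ⟨lamNeg, hneg⟩ := Groth.L25.Dyn.exists_neg lam
  let Jp := jPlus lam
  let Jm := jU lamNeg
  haveI : Jp.IsHopfIdeal k := Groth.L25.Dyn.isHopfIdeal_jPlus lam
  haveI : Jm.IsHopfIdeal k := Groth.L25.Dyn.isHopfIdeal_jU lamNeg
  let C := (A ⧸ Jm) ⊗[k] (A ⧸ Jp)
  let μA : A →ₐ[k] C :=
    (Algebra.TensorProduct.map (Ideal.Quotient.mkₐ k Jm) (Ideal.Quotient.mkₐ k Jp)).comp (Bialgebra.comulAlgHom k A)
  have hoi : IsOpenImmersion (Spec.map (CommRingCat.ofHom μA.toRingHom)) :=
    Groth.Agent.S3305.result k A lam lamNeg hneg Jp Jm (Groth.L25.Dyn.represents_jPlus lam)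
      (Groth.L25.Dyn.represents_jU lamNeg)
  let εm : A ⧸ Jm →ₐ[k] k := Bialgebra.counitAlgHom k (A ⧸ Jm)
  let εp : A ⧸ Jp →ₐ[k] k := Bialgebra.counitAlgHom k (A ⧸ Jp)
  haveI : Nontrivial C :=
    ((Algebra.TensorProduct.lift εm εp fun _ _ => Commute.all _ _) : C →ₐ[k] k).toRingHom.domain_nontrivial
  haveI : IsIntegral (Spec (CommRingCat.of A)) := inferInstance
  haveI : Nonempty (Spec (CommRingCat.of C)) := inferInstanceAs (Nonempty (PrimeSpectrum C))
  haveI : IsIntegral (Spec (CommRingCat.of C)) :=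
    isIntegral_of_isOpenImmersion (Spec.map (CommRingCat.ofHom μA.toRingHom))
  haveI : IsDomain C := (affine_isIntegral_iff (CommRingCat.of C)).1 inferInstance
  let il : A ⧸ Jm →ₐ[k] C := Algebra.TensorProduct.includeLeft
  let ir : A ⧸ Jp →ₐ[k] C := Algebra.TensorProduct.includeRight
  let rl : C →ₐ[k] A ⧸ Jm :=
    Algebra.TensorProduct.lift (AlgHom.id k _) ((Algebra.ofId k _).comp εp) fun _ _ => Commute.all _ _
  let rr : C →ₐ[k] A ⧸ Jp :=
    Algebra.TensorProduct.lift ((Algebra.ofId k _).comp εm) (AlgHom.id k _) fun _ _ => Commute.all _ _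
  have hrl : ∀ x, rl (il x) = x := fun x => by
    show rl (x ⊗ₜ[k] (1 : A ⧸ Jp)) = x
    rw [Algebra.TensorProduct.lift_tmul, map_one, _root_.mul_one]; rfl
  have hrr : ∀ x, rr (ir x) = x := fun x => by
    show rr ((1 : A ⧸ Jm) ⊗ₜ[k] x) = x
    rw [Algebra.TensorProduct.lift_tmul, map_one, _root_.one_mul]; rfl
  have hil : Function.Injective il := Function.LeftInverse.injective hrl
  have hir : Function.Injective ir := Function.LeftInverse.injective hrr
  haveI : IsDomain (A ⧸ Jm) := Function.Injective.isDomain il hil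
  haveI : IsDomain (A ⧸ Jp) := Function.Injective.isDomain ir hir
  -- unipotent part
  obtain ⟨m, hm⟩ := Groth.L01.Unip.exists_ringKrullDim k (A ⧸ Jm)
  obtain ⟨eU⟩ := exists_equiv_mvPolynomial m (A ⧸ Jm)
    (Groth.Agent.S3304.result k A lamNeg Jm (Groth.L25.Dyn.represents_jU lamNeg)) hm
  -- smaller part
  obtain ⟨p, hp⟩ := Groth.L01.Unip.exists_ringKrullDim k (A ⧸ Jp)
  obtain ⟨a, ha, ha0⟩ := (Submodule.ne_bot_iff _).1 hlam
  have hle : Ideal.span {a} ≤ Jp := (Ideal.span_singleton_le_iff_mem _).2 ha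
  have h1 : ringKrullDim (A ⧸ Jp) ≤ ringKrullDim (A ⧸ Ideal.span {a}) :=
    ringKrullDim_le_of_surjective (Ideal.Quotient.factor hle) (Ideal.Quotient.factor_surjective hle)
  have h2 := ringKrullDim_quotient_succ_le_of_nonZeroDivisor (mem_nonZeroDivisors_of_ne_zero ha0)
  have hlt : p < n := by
    have h3 : ((p + 1 : ℕ) : WithBot ℕ∞) ≤ (n : WithBot ℕ∞) := by
      rw [← hdim, Nat.cast_add, Nat.cast_one, ← hp]
      exact le_trans (add_le_add_left h1 _) h2
    exact Nat.lt_of_succ_le (by exact_mod_cast h3)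
  have hrp : Rat k (A ⧸ Jp) := IH p hlt (A ⧸ Jp) hp
  exact rat_of_isOpenImmersion μA hoi (Rat.tensor (Rat.congr eU (rat_mvPolynomial m)) hrp)

/-- **connected linear groups are rational** -/
theorem rat_of_isDomain (A : Type u) [CommRing A] [HopfAlgebra k A] [Algebra.FiniteType k A] [IsDomain A] :
    Rat k A := by
  obtain ⟨n, hn⟩ := Groth.L01.Unip.exists_ringKrullDim k A
  exact rat_aux n A hn

end Groth.L20.Rational
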