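import Groth.Agent.L20.Rational.Solvable
import Groth.Agent.L08.Borel.CentralTorus
import Groth.Agent.L08.Borel.TorusImage
import Groth.Agent.L25.Dyn.TorusCentralizer
import Groth.Agent.L25.Dyn.Cell
import Groth.Agent.L01.UnipSplit.SmoothKer
import Mathlib.RingTheory.Bialgebra.MonoidAlgebra

/-!
# Groups without nontrivial big cells are solvable
-/

set_option autoImplicit false
set_option backward.isDefEq.respectTransparency.types false
set_option linter.style.haveILetI false

universe u

open CategoryTheory MonoidalCategory CartesianMonoidalCategory MonObj GrpObj AlgebraicGeometry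
open TensorProduct WithConv
open Groth.L25.Bridge (P)
open Groth.L08.TorusQuot (sp exists_sp toPt toPt_ofPt toPt_pre SP Pt pre ofPt)
open Groth.L25.Dyn (TorCommutes exists_cocharacter jPlus pmap lamW)

noncomputable section

namespace Groth.L20.Rational

variable {k : Type u} [Field k] [IsAlgClosed k] {A : Type u} [CommRing A] [HopfAlgebra k A] [Algebra.FiniteType k A]
  [IsDomain A]

omit [IsAlgClosed k] [Algebra.FiniteType k A] [IsDomain A] in
theorem conjOrbit_trivial (h : ∀ lam : A →ₐc[k] LaurentPolynomial k, jPlus lam = ⊥)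
    (lam : A →ₐc[k] LaurentPolynomial k) {C : Type u} [CommRing C] [Algebra k C] (g : A →ₐ[k] C) :
    Dyn.conjOrbit k A lam C g = (IsScalarTower.toAlgHom k C (LaurentPolynomial C)).comp g := by
  refine (Groth.L25.Dyn.commutes_iff lam g).2 fun n hn a ha => ?_
  suffices a = 0 by rw [this, map_zero]
  rcases lt_or_gt_of_ne hn with hn | hn
  · exact (Submodule.eq_bot_iff _).1 (h lam) a (Ideal.subset_span ⟨n, hn, ha⟩)
  · obtain ⟨lamNeg, hneg⟩ := Groth.L25.Dyn.exists_neg lam
    exact (Submodule.eq_bot_iff _).1 (h lamNeg) a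
      (Ideal.subset_span ⟨-n, by omega, (Groth.L25.Dyn.hom_neg lam lamNeg hneg (-n) a).2 (by rwa [neg_neg])⟩)

theorem torus_central (h : ∀ lam : A →ₐc[k] LaurentPolynomial k, jPlus lam = ⊥) {n : ℕ}
    (c : A →ₐc[k] MonoidAlgebra k (Multiplicative (Fin n → ℤ)))
    (χ : Pt k (MonoidAlgebra k (Multiplicative (Fin n → ℤ))) k) (g : Pt k A k) :
    pre c χ * g = g * pre c χ := by
  let e : MonoidAlgebra k (Multiplicative (Fin n → ℤ)) ≃ₐc[k] AddMonoidAlgebra k (Fin n → ℤ) :=
    (AddMonoidAlgebra.toMultiplicativeBialgEquiv k k (Fin n → ℤ)).symm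
  let φc : A →ₐc[k] AddMonoidAlgebra k (Fin n → ℤ) := (e : _ →ₐc[k] _).comp c
  obtain ⟨w, hw⟩ := exists_cocharacter φc
  have hg : TorCommutes φc g.ofConv := hw k g.ofConv (conjOrbit_trivial h _ _)
  have h1 := hg k (AlgHom.id k k) (χ.ofConv.comp e.symm.toAlgEquiv.toAlgHom)
  have e1 : (toConv ((χ.ofConv.comp e.symm.toAlgEquiv.toAlgHom).comp (φc : A →ₐ[k] _)) : Pt k A k) = pre c χ := by
    refine WithConv.ext (AlgHom.ext fun a => ?_)
    show χ.ofConv (e.symm (e (c a))) = χ.ofConv (c a)
    rw [show e.symm (e (c a)) = c a from e.toAlgEquiv.symm_apply_apply _]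
  rw [e1] at h1
  exact h1.eq

theorem isSolvable_of_jPlus (h : ∀ lam : A →ₐc[k] LaurentPolynomial k, jPlus lam = ⊥) :
    Group.IsSolvable (Groth.L25.Dyn.Pt (k := k) A k) := by
  haveI : _root_.IsReduced A := inferInstance
  haveI : Smooth (P k A).hom := by
    haveI := Groth.L01.SmoothKer.formallySmooth_of_isReduced (k := k) (U := A)
    haveI : Algebra.FinitePresentation k A := Algebra.FinitePresentation.of_finiteType.1 inferInstance
    haveI : Algebra.Smooth k A := ⟨inferInstance, inferInstance⟩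
    show Smooth (Spec.map (CommRingCat.ofHom (algebraMap k A)))
    rw [HasRingHomProperty.Spec_iff (P := @Smooth), CommRingCat.hom_ofHom, RingHom.smooth_algebraMap]
    infer_instance
  haveI : ConnectedSpace (P k A).left := inferInstanceAs (ConnectedSpace (PrimeSpectrum A))
  have hsol : Red.IsSolvableGrp (P k A) := by
    refine Groth.L08.Borel.isSolvableGrp_of_central_tori fun S _ j _ _ hS s g => ?_
    obtain ⟨n, ⟨eS⟩⟩ := Groth.L08.Borel.exists_laurent_of_torus hS
    let L := MonoidAlgebra k (Multiplicative (Fin n → ℤ))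
    let et : S ≅ P k L := (Grp.forget _).mapIso eS
    haveI : IsMonHom et.inv := eS.inv.hom.isMonHom_hom
    haveI : IsMonHom (et.inv ≫ j) := inferInstance
    obtain ⟨c, hc⟩ := exists_sp (et.inv ≫ j)
    haveI : IsIso (Groth.L08.Borel.unitToSpec (k := k)).left := inferInstanceAs (IsIso (𝟙 (Spec (CommRingCat.of k))))
    haveI : IsIso ((Over.forget _).map (Groth.L08.Borel.unitToSpec (k := k))) := ‹_›
    haveI : IsIso (Groth.L08.Borel.unitToSpec (k := k)) := isIso_of_reflects_iso _ (Over.forget _)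
    let v := inv (Groth.L08.Borel.unitToSpec (k := k))
    let χ : Pt k L k := ofPt (v ≫ s ≫ et.hom)
    let g' : Pt k A k := ofPt (v ≫ g)
    have h1 : toPt (pre c χ) = v ≫ s ≫ j := by
      rw [toPt_pre, hc, toPt_ofPt]
      simp only [Category.assoc, Iso.hom_inv_id_assoc]
    have h2 := congrArg toPt (torus_central h c χ g')
    change Spec.mapMulEquiv (pre c χ * g') = Spec.mapMulEquiv (g' * pre c χ) at h2
    erw [map_mul, map_mul] at h2
    change toPt (pre c χ) * toPt g' = toPt g' * toPt (pre c χ) at h2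
    rw [h1, toPt_ofPt] at h2
    rw [← cancel_epi v, MonObj.comp_mul, MonObj.comp_mul]
    exact h2
  obtain ⟨m, hm⟩ := hsol
  haveI : Group.IsSolvable (SP k k ⟶ P k A) := ⟨⟨m, hm _⟩⟩
  exact Group.isSolvable_of_isSolvable_injective
    (f := (Spec.mapMulEquiv (R := k) (S := A) (T := k)).toMonoidHom) (Spec.mapMulEquiv).injective

theorem rat_of_jPlus (h : ∀ lam : A →ₐc[k] LaurentPolynomial k, jPlus lam = ⊥) : Rat k A := by
  haveI := isSolvable_of_jPlus (k := k) (A := A) h
  exact rat_of_solvable

end Groth.L20.Rational
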