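import Groth.Agent.L25.GeomIrred
import Mathlib.RingTheory.MvPolynomial.Basic
import Mathlib.RingTheory.TensorProduct.MvPolynomial
import Mathlib.Algebra.MonoidAlgebra.Basic

/-!
# Rational function fields
-/

set_option autoImplicit false

universe u

open TensorProduct

noncomputable section

namespace Groth.L20.Rational

variable {k : Type u} [Field k]

/-- birational domains have isomorphic fraction fields -/
theorem fracEquiv_of_birational {A C : Type u} [CommRing A] [IsDomain A] [Algebra k A] [CommRing C] [IsDomain C]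
    [Algebra k C] (ψ : A →ₐ[k] C) (hψ : Function.Injective ψ)
    (h : ∀ c : C, ∃ x s : A, s ≠ 0 ∧ c * ψ s = ψ x) :
    Nonempty (FractionRing A ≃ₐ[k] FractionRing C) := by
  let g : A →ₐ[k] FractionRing C := (IsScalarTower.toAlgHom k C (FractionRing C)).comp ψ
  have hg : Function.Injective g := (IsFractionRing.injective C (FractionRing C)).comp hψ
  let Φ : FractionRing A →ₐ[k] FractionRing C := IsFractionRing.liftAlgHom hg
  have hΦ : ∀ a, Φ (algebraMap A (FractionRing A) a) = g a := fun a => IsFractionRing.lift_algebraMap hg a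
  refine ⟨AlgEquiv.ofBijective Φ ⟨Φ.toRingHom.injective, fun z => ?_⟩⟩
  obtain ⟨c, d, hd, rfl⟩ := IsFractionRing.div_surjective (A := C) z
  have hd0 : d ≠ 0 := nonZeroDivisors.ne_zero hd
  have hval : ∀ e : C, ∃ w, Φ w = algebraMap C (FractionRing C) e := by
    intro e
    obtain ⟨x, s, hs, hxs⟩ := h e
    refine ⟨algebraMap A _ x / algebraMap A _ s, ?_⟩
    rw [map_div₀, hΦ, hΦ, div_eq_iff ((map_ne_zero_iff g hg).2 hs)]
    show algebraMap C (FractionRing C) (ψ x) = algebraMap C (FractionRing C) e * algebraMap C (FractionRing C) (ψ s)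
    rw [← map_mul, hxs]
  obtain ⟨w, hw⟩ := hval c
  obtain ⟨v, hv⟩ := hval d
  exact ⟨w / v, by rw [map_div₀, hw, hv]⟩

theorem fracEquiv_congr {A C : Type u} [CommRing A] [IsDomain A] [Algebra k A] [CommRing C] [IsDomain C]
    [Algebra k C] (e : A ≃ₐ[k] C) : Nonempty (FractionRing A ≃ₐ[k] FractionRing C) :=
  fracEquiv_of_birational e.toAlgHom e.injective fun c => ⟨e.symm c, 1, one_ne_zero, by simp⟩

/-- the fraction field is purely transcendental -/
def Rat (k : Type u) [Field k] (A : Type u) [CommRing A] [Algebra k A] : Prop :=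
  ∃ n : ℕ, Nonempty (FractionRing A ≃ₐ[k] FractionRing (MvPolynomial (Fin n) k))

theorem Rat.of_birational {A C : Type u} [CommRing A] [IsDomain A] [Algebra k A] [CommRing C] [IsDomain C]
    [Algebra k C] (ψ : A →ₐ[k] C) (hψ : Function.Injective ψ)
    (h : ∀ c : C, ∃ x s : A, s ≠ 0 ∧ c * ψ s = ψ x) (hC : Rat k C) : Rat k A := by
  obtain ⟨n, ⟨e⟩⟩ := hC
  obtain ⟨f⟩ := fracEquiv_of_birational ψ hψ h
  exact ⟨n, ⟨f.trans e⟩⟩

theorem Rat.congr {A C : Type u} [CommRing A] [IsDomain A] [Algebra k A] [CommRing C] [IsDomain C]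
    [Algebra k C] (e : A ≃ₐ[k] C) (hC : Rat k C) : Rat k A :=
  hC.of_birational e.toAlgHom e.injective fun c => ⟨e.symm c, 1, one_ne_zero, by simp⟩

theorem rat_mvPolynomial (n : ℕ) : Rat k (MvPolynomial (Fin n) k) := ⟨n, ⟨AlgEquiv.refl⟩⟩

/-- a tensor product is birational to the tensor product of the fraction fields -/
theorem fracEquiv_tensor [IsAlgClosed k] (A B : Type u) [CommRing A] [IsDomain A] [Algebra k A] [CommRing B]
    [IsDomain B] [Algebra k B] :
    Nonempty (FractionRing (A ⊗[k] B) ≃ₐ[k] FractionRing (FractionRing A ⊗[k] FractionRing B)) := by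
  haveI : IsDomain (A ⊗[k] B) := Groth.L25.GeomIrred.isDomain_tensorProduct
  haveI : IsDomain (FractionRing A ⊗[k] FractionRing B) := Groth.L25.GeomIrred.isDomain_tensorProduct
  let i : A →ₐ[k] FractionRing A := IsScalarTower.toAlgHom k A _
  let j : B →ₐ[k] FractionRing B := IsScalarTower.toAlgHom k B _
  let ψ := Algebra.TensorProduct.map i j
  refine fracEquiv_of_birational ψ ?_ fun c => ?_
  · have h1 := Module.Flat.rTensor_preserves_injective_linearMap (M := B) i.toLinearMap
      (IsFractionRing.injective A (FractionRing A))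
    have h2 := Module.Flat.lTensor_preserves_injective_linearMap (M := FractionRing A) j.toLinearMap
      (IsFractionRing.injective B (FractionRing B))
    have e : (ψ : A ⊗[k] B → _) = j.toLinearMap.lTensor (FractionRing A) ∘ i.toLinearMap.rTensor B := by
      funext x
      induction x using TensorProduct.induction_on with
      | zero => simp
      | tmul a b => rfl
      | add x y hx hy => simp only [Function.comp_apply, map_add] at hx hy ⊢; rw [hx, hy]
    rw [e]
    exact h2.comp h1
  · induction c using TensorProduct.induction_on with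
    | zero => exact ⟨0, 1, one_ne_zero, by simp⟩
    | tmul p q =>
      obtain ⟨a, s, hs, rfl⟩ := IsFractionRing.div_surjective (A := A) p
      obtain ⟨b, t, ht, rfl⟩ := IsFractionRing.div_surjective (A := B) q
      refine ⟨a ⊗ₜ b, s ⊗ₜ t, ?_, ?_⟩
      · intro h
        have hsu : algebraMap A (FractionRing A) s ≠ 0 := IsFractionRing.to_map_ne_zero_of_mem_nonZeroDivisors hs
        have htu : algebraMap B (FractionRing B) t ≠ 0 := IsFractionRing.to_map_ne_zero_of_mem_nonZeroDivisors ht
        have h0 := congrArg ψ h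
        rw [map_zero, Algebra.TensorProduct.map_tmul] at h0
        have h2 : ((algebraMap A (FractionRing A) s)⁻¹ ⊗ₜ[k] (algebraMap B (FractionRing B) t)⁻¹) *
            (i s ⊗ₜ[k] j t) = 1 := by
          rw [Algebra.TensorProduct.tmul_mul_tmul, Algebra.TensorProduct.one_def]
          exact congrArg₂ _ (inv_mul_cancel₀ hsu) (inv_mul_cancel₀ htu)
        rw [h0, mul_zero] at h2
        exact zero_ne_one h2
      · rw [Algebra.TensorProduct.map_tmul, Algebra.TensorProduct.map_tmul, Algebra.TensorProduct.tmul_mul_tmul]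
        exact congrArg₂ _ (div_mul_cancel₀ _ (IsFractionRing.to_map_ne_zero_of_mem_nonZeroDivisors hs))
          (div_mul_cancel₀ _ (IsFractionRing.to_map_ne_zero_of_mem_nonZeroDivisors ht))
    | add c d hc hd =>
      obtain ⟨x, s, hs, hx⟩ := hc
      obtain ⟨y, t, ht, hy⟩ := hd
      refine ⟨x * t + y * s, s * t, mul_ne_zero hs ht, ?_⟩
      rw [map_add, map_mul, map_mul, map_mul, ← hx, ← hy]
      ring

theorem Rat.tensor [IsAlgClosed k] {A B : Type u} [CommRing A] [IsDomain A] [Algebra k A] [CommRing B]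
    [IsDomain B] [Algebra k B] (hA : Rat k A) (hB : Rat k B) : Rat k (A ⊗[k] B) := by
  obtain ⟨m, ⟨eA⟩⟩ := hA
  obtain ⟨n, ⟨eB⟩⟩ := hB
  let Pm := MvPolynomial (Fin m) k
  let Pn := MvPolynomial (Fin n) k
  haveI : IsDomain (FractionRing A ⊗[k] FractionRing B) := Groth.L25.GeomIrred.isDomain_tensorProduct
  haveI : IsDomain (FractionRing Pm ⊗[k] FractionRing Pn) := Groth.L25.GeomIrred.isDomain_tensorProduct
  haveI : IsDomain (Pm ⊗[k] Pn) := Groth.L25.GeomIrred.isDomain_tensorProduct
  obtain ⟨e1⟩ := fracEquiv_tensor (k := k) A B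
  obtain ⟨e2⟩ := fracEquiv_congr (Algebra.TensorProduct.congr eA eB)
  obtain ⟨e3⟩ := fracEquiv_tensor (k := k) Pm Pn
  obtain ⟨e4⟩ := fracEquiv_congr ((MvPolynomial.tensorEquivSum k (Fin m) (Fin n) k).trans
    (MvPolynomial.renameEquiv k finSumFinEquiv))
  exact ⟨m + n, ⟨((e1.trans e2).trans e3.symm).trans e4⟩⟩

/-- a split torus is rational -/
theorem rat_laurent (n : ℕ) : Rat k (MonoidAlgebra k (Multiplicative (Fin n → ℤ))) := by
  classical
  let c : (Fin n →₀ ℕ) →+ (Fin n → ℤ) :=
    { toFun := fun d i => (d i : ℤ)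
      map_zero' := by ext; simp
      map_add' := fun a b => by ext; simp }
  let f : Multiplicative (Fin n →₀ ℕ) →* Multiplicative (Fin n → ℤ) := AddMonoidHom.toMultiplicative c
  let ψ : MvPolynomial (Fin n) k →ₐ[k] MonoidAlgebra k (Multiplicative (Fin n → ℤ)) :=
    (MonoidAlgebra.mapDomainAlgHom k k f).comp (AddMonoidAlgebra.toMultiplicativeAlgEquiv k k (Fin n →₀ ℕ)).toAlgHom
  have hc : Function.Injective c := fun a b h => Finsupp.ext fun i => by
    have := congrFun h i
    exact Int.ofNat.inj this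
  have hψ : Function.Injective ψ :=
    (MonoidAlgebra.mapDomain_injective (R := k) (f := f) hc).comp
      (AddMonoidAlgebra.toMultiplicativeAlgEquiv k k (Fin n →₀ ℕ)).injective
  have hmon : ∀ (d : Fin n →₀ ℕ) (a : k), ψ (MvPolynomial.monomial d a) =
      MonoidAlgebra.single (Multiplicative.ofAdd (c d)) a := by
    intro d a
    show MonoidAlgebra.mapDomainAlgHom k k f
      (AddMonoidAlgebra.toMultiplicativeAlgEquiv k k (Fin n →₀ ℕ) (AddMonoidAlgebra.single d a)) = _
    rw [AddMonoidAlgebra.toMultiplicativeAlgEquiv_single]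
    exact MonoidAlgebra.mapDomain_single
  haveI : IsDomain (MonoidAlgebra k (Multiplicative (Fin n → ℤ))) := NoZeroDivisors.to_isDomain _
  have hb : ∀ x : MonoidAlgebra k (Multiplicative (Fin n → ℤ)), ∃ p s, s ≠ 0 ∧ x * ψ s = ψ p := by
    intro x
    induction x using MonoidAlgebra.induction_linear with
    | zero => exact ⟨0, 1, one_ne_zero, by simp⟩
    | add x y hx hy =>
      obtain ⟨p, s, hs, hp⟩ := hx
      obtain ⟨q, t, ht, hq⟩ := hy
      refine ⟨p * t + q * s, s * t, mul_ne_zero hs ht, ?_⟩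
      rw [map_add, map_mul, map_mul, map_mul, ← hp, ← hq]
      ring
    | single m a =>
      refine ⟨MvPolynomial.monomial (Finsupp.equivFunOnFinite.symm fun i => (m.toAdd i).toNat) a,
        MvPolynomial.monomial (Finsupp.equivFunOnFinite.symm fun i => (-m.toAdd i).toNat) 1, ?_, ?_⟩
      · simp [MvPolynomial.monomial_eq_zero]
      · rw [hmon, hmon, MonoidAlgebra.single_mul_single, _root_.mul_one]
        congr 1
        apply Multiplicative.toAdd.injective
        funext i
        show m.toAdd i + ((-m.toAdd i).toNat : ℤ) = ((m.toAdd i).toNat : ℤ)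
        omega
  obtain ⟨e⟩ := fracEquiv_of_birational ψ hψ hb
  exact ⟨n, ⟨e.symm⟩⟩

end Groth.L20.Rational
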